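import Groth.Agent.RegTilde.LinRes
import Groth.Agent.PlaneForms.Basic
import Groth.Agent.ProjCech.Main

/-!
Dimensions of spaces of sections of sums of twists on the projective line.
-/

set_option autoImplicit false
set_option linter.unusedSectionVars false
set_option linter.style.haveILetI false
set_option backward.isDefEq.respectTransparency false

universe u

open CategoryTheory CategoryTheory.Limits AlgebraicGeometry TopologicalSpace Opposite

noncomputable section

namespace Groth.Agent.P1Split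

variable {k : Type u} [Field k]

/-- `h⁰(O(c)) = max 0 (c + 1)`. -/
lemma finrank_twist (c : ℤ) :
    Module.finrank k (Coh.HH (CohB1.ProjSpace 1 k) (Twist.twistProjSpace 1 k c) 0) = (c + 1).toNat := by
  classical
  rcases le_or_gt 0 c with hc | hc
  · obtain ⟨d, rfl⟩ := Int.eq_ofNat_of_zero_le hc
    obtain ⟨e⟩ := Groth.Agent.ProjCech.zero_equiv (R := k) 1 d
    rw [e.finrank_eq, (Groth.Agent.PlaneForms.finite_homogeneous_and_finrank (σ := Fin (1 + 1)) d).2,
      Fintype.card_fin, show 1 + 1 + d - 1 = d + 1 by omega, Nat.choose_succ_self_right]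
    omega
  · haveI := Groth.Agent.ProjCech.twist_vanish (R := k) 1 c 0 (by omega) (by omega)
    rw [Module.finrank_zero_of_subsingleton]
    omega

lemma not_subsingleton_twist {c : ℤ} (hc : 0 ≤ c) :
    ¬ Subsingleton (Coh.HH (CohB1.ProjSpace 1 k) (Twist.twistProjSpace 1 k c) 0) := fun h => by
  have := finrank_twist (k := k) c
  rw [Module.finrank_zero_of_subsingleton] at this
  omega

variable {X : Scheme.{u}}

/-- Projections of a finite coproduct. -/
lemma exists_proj {b : ℕ} (L : Fin b → X.Modules) : ∃ π : ∀ t, (∐ L) ⟶ L t,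
    (∀ s, Sigma.ι L s ≫ π s = 𝟙 _) ∧ (∀ s t, s ≠ t → Sigma.ι L s ≫ π t = 0) ∧
      ∑ t, π t ≫ Sigma.ι L t = 𝟙 (∐ L) := by
  classical
  let π : ∀ t, (∐ L) ⟶ L t := fun t => Sigma.desc fun s => if h : s = t then eqToHom (by rw [h]) else 0
  have h1 : ∀ s, Sigma.ι L s ≫ π s = 𝟙 _ := fun s => by
    rw [Sigma.ι_desc, dif_pos rfl, eqToHom_refl]
  have h2 : ∀ s t, s ≠ t → Sigma.ι L s ≫ π t = 0 := fun s t h => by
    rw [Sigma.ι_desc, dif_neg h]
  refine ⟨π, h1, h2, Sigma.hom_ext _ _ fun s => ?_⟩
  rw [Preadditive.comp_sum, Category.comp_id, Finset.sum_eq_single s]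
  · rw [← Category.assoc, h1, Category.id_comp]
  · intro t _ ht
    rw [← Category.assoc, h2 s t (Ne.symm ht), zero_comp]
  · exact fun h => absurd (Finset.mem_univ _) h

variable (A : Type u) [CommRing A] [X.Over (Spec (CommRingCat.of A))]

/-- The zero map is zero on cohomology. -/
lemma hhMap_zero (M N : X.Modules) (q : ℕ) (x : Coh.HH X M q) :
    CohFinite.hhMap A (0 : M ⟶ N) q x = 0 := by
  let Φ : (M ⟶ N) →+ Coh.HH X N q :=
    AddMonoidHom.mk' (fun f => Sheaf.H.map ((SheafOfModules.toSheaf X.ringCatSheaf).map f) q x) fun a b =>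
      (congr_arg (fun g => Sheaf.H.map g q x) ((SheafOfModules.toSheaf X.ringCatSheaf).map_add (f := a) (g := b))).trans
        (Sheaf.H.map_add_apply _ _ _)
  exact Φ.map_zero

/-- Cohomology of a finite coproduct. -/
lemma nonempty_hh_coprod {b : ℕ} (L : Fin b → X.Modules) (M : X.Modules) (q : ℕ) :
    Nonempty (Coh.HH X (CohB1.tensorMod (∐ L) M) q ≃ₗ[A] ∀ t, Coh.HH X (CohB1.tensorMod (L t) M) q) := by
  classical
  obtain ⟨π, h1, h2, h3⟩ := exists_proj L
  let i := fun t => CohFinite.tmap (Sigma.ι L t) M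
  let p := fun t => CohFinite.tmap (π t) M
  have ht : ∑ t, p t ≫ i t = 𝟙 _ := by
    simp only [p, i, ← CohFinite.tmap_comp]
    exact (CohFinite.tmap_sum _ _ _).symm.trans ((congrArg (fun ψ => CohFinite.tmap ψ M) h3).trans (CohFinite.tmap_id _ _))
  let φ : (CohB1.tensorMod (∐ L) M ⟶ CohB1.tensorMod (∐ L) M) → Coh.HH X (CohB1.tensorMod (∐ L) M) q →
      Coh.HH X (CohB1.tensorMod (∐ L) M) q := fun f => CohFinite.hhMap A f q
  refine ⟨{ LinearMap.pi (fun t => CohFinite.hhMap A (p t) q) with
    invFun := fun y => ∑ t, CohFinite.hhMap A (i t) q (y t)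
    left_inv := fun x => ?_
    right_inv := fun y => ?_ }⟩
  · let Φ : (CohB1.tensorMod (∐ L) M ⟶ CohB1.tensorMod (∐ L) M) →+ Coh.HH X (CohB1.tensorMod (∐ L) M) q :=
      AddMonoidHom.mk' (fun f => Sheaf.H.map ((SheafOfModules.toSheaf X.ringCatSheaf).map f) q x) fun a b =>
        (congr_arg (fun g => Sheaf.H.map g q x) ((SheafOfModules.toSheaf X.ringCatSheaf).map_add (f := a) (g := b))).trans
          (Sheaf.H.map_add_apply _ _ _)
    have h0 : Φ (∑ t, p t ≫ i t) = x := by
      rw [ht]
      exact CohQC.hmap_id q _ x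
    refine Eq.trans ?_ h0
    rw [map_sum]
    exact Finset.sum_congr rfl fun t _ => (CohFinite.hhMap_comp A (p t) (i t) q x).symm
  · funext s
    show CohFinite.hhMap A (p s) q (∑ t, CohFinite.hhMap A (i t) q (y t)) = y s
    rw [map_sum, Finset.sum_eq_single s]
    · rw [← CohFinite.hhMap_comp]
      simp only [p, i, ← CohFinite.tmap_comp, h1, CohFinite.tmap_id]
      exact CohFinite.hhMap_id A _ q _
    · intro t _ hts
      rw [← CohFinite.hhMap_comp]
      simp only [p, i, ← CohFinite.tmap_comp, h2 t s hts, CohFinite.tmap_zero]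
      exact hhMap_zero A _ _ q (y t)
    · exact fun h => absurd (Finset.mem_univ _) h

/-- An antitone tuple is determined by its counting function. -/
lemma eq_of_sum_eq {r : ℕ} (d d' : Fin r → ℤ) (hd : Antitone d) (hd' : Antitone d')
    (h : ∀ c : ℤ, ∑ i, (d i + c + 1).toNat = ∑ i, (d' i + c + 1).toNat) : d = d' := by
  classical
  have hN : ∀ (e : Fin r → ℤ) (c : ℤ), ∑ i, (e i + (-c) + 1).toNat =
      ∑ i, (e i + (-(c + 1)) + 1).toNat + (Finset.univ.filter fun i => c ≤ e i).card := by
    intro e c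
    rw [Finset.card_filter, ← Finset.sum_add_distrib]
    refine Finset.sum_congr rfl fun i _ => ?_
    split_ifs <;> omega
  have hcard : ∀ c : ℤ, (Finset.univ.filter fun i => c ≤ d i).card = (Finset.univ.filter fun i => c ≤ d' i).card := by
    intro c
    have h1 := hN d c
    have h2 := hN d' c
    rw [h (-c), h (-(c + 1))] at h1
    omega
  have hiff : ∀ (e : Fin r → ℤ), Antitone e → ∀ (c : ℤ) (i : Fin r),
      c ≤ e i ↔ (i : ℕ) < (Finset.univ.filter fun j => c ≤ e j).card := by
    intro e he c i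
    constructor
    · intro hci
      have hsub : Finset.Iic i ⊆ Finset.univ.filter fun j => c ≤ e j := fun j hj =>
        Finset.mem_filter.2 ⟨Finset.mem_univ _, hci.trans (he (Finset.mem_Iic.1 hj))⟩
      have := Finset.card_le_card hsub
      rw [Fin.card_Iic] at this
      omega
    · intro hlt
      by_contra hci
      have hsub : (Finset.univ.filter fun j => c ≤ e j) ⊆ Finset.Iio i := fun j hj => by
        rw [Finset.mem_Iio]
        by_contra hji
        exact hci ((Finset.mem_filter.1 hj).2.trans (he (not_lt.1 hji)))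
      have := Finset.card_le_card hsub
      rw [Fin.card_Iio] at this
      omega
  funext i
  refine le_antisymm ?_ ?_
  · rw [hiff d' hd', ← hcard, ← hiff d hd]
  · rw [hiff d hd, hcard, ← hiff d' hd']

end Groth.Agent.P1Split
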