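import Groth.Agent.P1Split.Line
import Groth.Agent.P1Split.Dim

/-!
Splitting of torsion-free coherent modules on the projective line.
-/

set_option autoImplicit false
set_option linter.unusedSectionVars false
set_option linter.style.haveILetI false
set_option backward.isDefEq.respectTransparency false

universe u

open CategoryTheory CategoryTheory.Limits AlgebraicGeometry TopologicalSpace Opposite
open Groth.Agent.QC (res res_res res_smul app_res)

noncomputable section

namespace Groth.Agent.P1Split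

section General

variable {X : Scheme.{u}} {L L' : X.Modules} (η : CohB1.tensorMod L' L ≅ Coh.structureModule X)

/-- Maps out of an invertible module are determined by their value at the generator. -/
lemma hom_ext_gen (hL' : PicF.IsInvertible L') {F : X.Modules} (h h' : L ⟶ F)
    (e : (CohFinite.tmap h L').app ⊤ (LinRes.gen₀ η) = (CohFinite.tmap h' L').app ⊤ (LinRes.gen₀ η)) :
    h = h' := by
  refine sub_eq_zero.1 (LinRes.eq_zero_of_tmap hL' _ (LinRes.eq_zero_of_gen (TMul.commIso L L' ≪≫ η) _ ?_))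
  have h2 : CohFinite.tmap (h - h') L' + CohFinite.tmap h' L' = CohFinite.tmap h L' := by
    rw [← CohFinite.tmap_add, sub_add_cancel]
  have h3 := congrArg (RegKos.ev (LinRes.gen₀ η)) h2
  rw [map_add] at h3
  exact add_right_cancel (h3.trans (e.trans (zero_add _).symm))

lemma zero_of_hh0 (A : Type u) [CommRing A] [X.Over (Spec (CommRingCat.of A))] {M : X.Modules}
    (h : Subsingleton (Coh.HH X M 0)) (z : Γ(M, ⊤)) : z = 0 := by
  obtain ⟨e, -⟩ := CohFinite.exists_zero_equiv A M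
  exact e.symm.injective (h.elim _ _)

lemma hh0_of_zero (A : Type u) [CommRing A] [X.Over (Spec (CommRingCat.of A))] {M : X.Modules}
    (h : ∀ z : Γ(M, ⊤), z = 0) : Subsingleton (Coh.HH X M 0) := by
  obtain ⟨e, -⟩ := CohFinite.exists_zero_equiv A M
  exact ⟨fun a b => e.injective ((h _).trans (h _).symm)⟩

end General

variable {k : Type u} [Field k]

lemma exists_eta (a : ℤ) :
    Nonempty (CohB1.tensorMod (O k (-a)) (O k a) ≅ Coh.structureModule (CohB1.ProjSpace 1 k)) := by
  obtain ⟨i⟩ := RegCx.twist_twist (k := k) (n := 1) (-a) a 0 (by ring)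
  obtain ⟨j⟩ := GrT.nonempty_twist_zero_iso (𝒜 := CohB1.polyGrading 1 k)
  exact ⟨i ≪≫ j⟩

variable (k) in
/-- A trivialisation of `O(-a) ⊗ O(a)`. -/
def eta (a : ℤ) : CohB1.tensorMod (O k (-a)) (O k a) ≅ Coh.structureModule (CohB1.ProjSpace 1 k) :=
  (exists_eta (k := k) a).some

lemma rk_of_isZero {E : (CohB1.ProjSpace 1 k).Modules} (h : IsZero E) : rk E = 0 := by
  haveI : Subsingleton Γ(E, U k 0) := ⟨fun a b => by
    have : ∀ v : Γ(E, U k 0), v = 0 := fun v => by
      refine (congrArg (RegKos.ev v) (show 𝟙 E = 0 from h.eq_of_src _ _)).trans ?_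
      rfl
    rw [this a, this b]⟩
  exact Module.finrank_zero_of_subsingleton

lemma isZero_of_rk {E : (CohB1.ProjSpace 1 k).Modules} (hE : Coh.IsCoh E) (hT : TF E) (h : rk E = 0) :
    IsZero E := by
  obtain ⟨h1, h2⟩ := hT.free hE 0
  haveI : Subsingleton Γ(E, U k 0) := Module.subsingleton_of_rank_zero (R := Γ(CohB1.ProjSpace 1 k, U k 0))
    (by rw [← Module.finrank_eq_rank]; exact_mod_cast h)
  refine isZero_of_charts hE.1 fun i v => ?_
  haveI : AlgebraicGeometry.IsIntegral (CohB1.ProjSpace 1 k) := CurveP1.isIntegral k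
  obtain ⟨y, hyi, hy0⟩ : ((U k i : Set (CohB1.ProjSpace 1 k)) ∩ U k 0).Nonempty :=
    nonempty_preirreducible_inter (U k i).2 (U k 0).2 (U_nonempty i) (U_nonempty 0)
  obtain ⟨c, hc, hyc⟩ := (isAffine_U i).exists_basicOpen_le (V := U k 0) ⟨y, hy0⟩ hyi
  haveI : E.IsQuasicoherent := hE.1
  have hz : res E ((CohB1.ProjSpace 1 k).basicOpen_le c) v = 0 := by
    haveI : E.IsQuasicoherent := hE.1
    -- sections on the overlap come from the first chart
    obtain ⟨c', hc', hyc'⟩ := (isAffine_U 0).exists_basicOpen_le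
      (V := (CohB1.ProjSpace 1 k).basicOpen c) ⟨y, hyc⟩ hy0
    obtain ⟨N, s, hs⟩ := (Groth.Agent.QC.isLoc_of_isQCoh (isAffine_U 0)).exists_extend c' (res E hc'
      (res E ((CohB1.ProjSpace 1 k).basicOpen_le c) v))
    rw [Subsingleton.elim s 0, map_zero] at hs
    have hu : IsUnit (Groth.Agent.QC.resO (CohB1.ProjSpace 1 k) ((CohB1.ProjSpace 1 k).basicOpen_le c') c' ^ N) :=
      (RingedSpace.isUnit_res_basicOpen _ c').pow N
    have h0 := (IsUnit.smul_eq_zero hu).1 hs.symm
    rw [res_res] at h0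
    obtain ⟨d, hd, hyd⟩ := (isAffine_U i).exists_basicOpen_le
      (V := (CohB1.ProjSpace 1 k).basicOpen c') ⟨y, hyc'⟩ hyi
    have hd0 : res E ((CohB1.ProjSpace 1 k).basicOpen_le d) v = 0 := by
      rw [← res_res E hd (hc'.trans ((CohB1.ProjSpace 1 k).basicOpen_le c)), h0, map_zero]
    obtain ⟨N', hN'⟩ := (Groth.Agent.QC.isLoc_of_isQCoh (isAffine_U i)).exists_pow_smul_eq_zero d _ hd0
    rw [(hT i (d ^ N') _ hN').resolve_left (pow_ne_zero _ ?_), map_zero]
    rintro rfl
    rw [Scheme.basicOpen_zero] at hyd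
    exact hyd
  obtain ⟨N', hN'⟩ := (Groth.Agent.QC.isLoc_of_isQCoh (isAffine_U i)).exists_pow_smul_eq_zero c _ hz
  refine (hT i (c ^ N') _ hN').resolve_left (pow_ne_zero _ ?_)
  rintro rfl
  rw [Scheme.basicOpen_zero] at hyc
  exact hyc

/-- The map from `O(a)` given by a section of `E(-a)`. -/
def sec {E : (CohB1.ProjSpace 1 k).Modules} (a : ℤ) (s : Γ(CohB1.tensorMod E (O k (-a)), ⊤)) : O k a ⟶ E :=
  LinRes.secHom (eta k a) s

lemma sec_gen {E : (CohB1.ProjSpace 1 k).Modules} (a : ℤ) (s : Γ(CohB1.tensorMod E (O k (-a)), ⊤)) :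
    (CohFinite.tmap (sec a s) (O k (-a))).app ⊤ (LinRes.gen₀ (eta k a)) = s :=
  LinRes.tmap_secHom_gen (eta k a) (CohFinite.isInvertible_twist 1 k _) s

lemma sec_ne_zero {E : (CohB1.ProjSpace 1 k).Modules} (a : ℤ) {s : Γ(CohB1.tensorMod E (O k (-a)), ⊤)}
    (hs : s ≠ 0) : sec a s ≠ 0 := fun h => hs (by
  rw [← sec_gen a s, h, CohFinite.tmap_zero]
  rfl)

lemma exists_max {E : (CohB1.ProjSpace 1 k).Modules} (hE : Coh.IsCoh E) (hT : TF E) (hr : rk E ≠ 0) :
    ∃ a : ℤ, (∃ s : Γ(CohB1.tensorMod E (O k (-a)), ⊤), s ≠ 0) ∧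
      ∀ z : ℤ, a < z → ∀ s : Γ(CohB1.tensorMod E (O k (-z)), ⊤), s = 0 := by
  classical
  haveI : AlgebraicGeometry.IsNoetherian (CohB1.ProjSpace 1 k) := CohFinite.isNoetherian_projSpace 1 k
  haveI := CohFinite.finite_projSpace 1 k E hE 0
  suffices hb : (∀ z : ℤ, (∃ s : Γ(CohB1.tensorMod E (O k (-z)), ⊤), s ≠ 0) →
      z ≤ Module.finrank k (Coh.HH (CohB1.ProjSpace 1 k) E 0)) ∧
      ∃ z : ℤ, ∃ s : Γ(CohB1.tensorMod E (O k (-z)), ⊤), s ≠ 0 by
    obtain ⟨a, ha, hmax⟩ := Int.exists_greatest_of_bdd ⟨_, hb.1⟩ hb.2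
    exact ⟨a, ha, fun z hz s => by_contra fun hs => absurd (hmax z ⟨s, hs⟩) (not_le.2 hz)⟩
  refine ⟨fun z => ?_, ?_⟩
  · rintro ⟨s, hs⟩
    rcases lt_or_ge z 0 with hz | hz
    · omega
    haveI := mono_of_ne_zero hT hE.1 (sec z s) (sec_ne_zero z hs)
    have hS : (ShortComplex.mk (sec z s) (cokernel.π (sec z s)) (cokernel.condition _)).ShortExact :=
      { exact := ShortComplex.exact_cokernel _, mono_f := inferInstanceAs (Mono (sec z s)),
        epi_g := inferInstanceAs (Epi (cokernel.π _)) }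
    haveI := CohFinite.finite_projSpace 1 k _ (CohFinite.isCoh_twist 1 k z) 0
    have h1 := LinearMap.finrank_le_finrank_of_injective (f := CohFinite.hhMap k (sec z s) 0)
      (CohFinite.map_f_injective (CohQC.seq_shortExact hS))
    rw [finrank_twist] at h1
    omega
  · obtain ⟨N, hN⟩ := GrT.exists_epi_twists
      (v := fun i : ProjCech.J.{u} 1 => (MvPolynomial.X i.down : MvPolynomial (Fin (1 + 1)) k))
      (fun i => MvPolynomial.isHomogeneous_X k i.down) hE.1 hE.2 (CohFinite.cov_X 1 k)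
    obtain ⟨l, p, hp⟩ := hN N le_rfl
    by_contra hall
    push_neg at hall
    refine hr (rk_of_isZero ?_)
    have hp0 : p = 0 := Sigma.hom_ext _ _ fun j => by
      rw [comp_zero]
      refine hom_ext_gen (eta k (-(N : ℤ))) (CohFinite.isInvertible_twist 1 k _) _ 0 ?_
      exact (hall (-(N : ℤ)) _).trans (hall (-(N : ℤ)) _).symm
    rw [IsZero.iff_id_eq_zero, ← cancel_epi p, hp0, zero_comp, zero_comp]

lemma tf_twist (a : ℤ) : TF (O k a) := by
  intro i c v hcv
  obtain ⟨e, he⟩ := exists_gen (k := k) a i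
  have hbij := he (U k i) le_rfl
  simp only [Groth.Agent.QC.res_self] at hbij
  obtain ⟨r, rfl⟩ := hbij.2 v
  have h : c * r = 0 := hbij.1 (by
    show (c * r) • e = (0 : Γ(CohB1.ProjSpace 1 k, U k i)) • e
    rw [mul_smul, hcv, zero_smul])
  rcases mul_eq_zero.1 h with h | h
  · exact Or.inl h
  · exact Or.inr (by show r • e = 0; rw [h, zero_smul])

/-- Summands of a module without sections after twisting have small degree. -/
lemma le_of_hh0 {Q : (CohB1.ProjSpace 1 k).Modules} {n : ℕ} {d : Fin n → ℤ} (b : ℤ)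
    (e : Q ≅ ∐ fun i : Fin n => O k (d i))
    (hQ : Subsingleton (Coh.HH (CohB1.ProjSpace 1 k) (CohB1.tensorMod Q (O k b)) 0)) (i : Fin n) :
    d i + b < 0 := by
  classical
  obtain ⟨q⟩ := nonempty_hh_coprod k (fun i : Fin n => O k (d i)) (O k b) 0
  have h1 := CohQC.hh_subsingleton_of_iso (PicGrp.tensorModIso e (Iso.refl (O k b))) _ hQ
  have h2 : Subsingleton (Coh.HH (CohB1.ProjSpace 1 k) (CohB1.tensorMod (O k (d i)) (O k b)) 0) :=
    ⟨fun x y => by
      have := congrFun (congrArg q (h1.elim (q.symm (Pi.single i x)) (q.symm (Pi.single i y)))) i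
      simpa using this⟩
  obtain ⟨j⟩ := RegCx.twist_twist (k := k) (n := 1) (d i) b (d i + b) rfl
  by_contra hlt
  exact not_subsingleton_twist (k := k) (c := d i + b) (by omega)
    (CohQC.hh_subsingleton_of_iso j _ h2)

/-- Lifting maps from small line bundles along a quotient by a line bundle. -/
lemma exists_lift {a b : ℤ} (hb : b ≤ a + 1) {S : ShortComplex (CohB1.ProjSpace 1 k).Modules} (hS : S.ShortExact)
    (i₁ : S.X₁ ≅ O k a) (g : O k b ⟶ S.X₃) : ∃ ψ : O k b ⟶ S.X₂, ψ ≫ S.g = g := by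
  obtain ⟨j⟩ := RegCx.twist_twist (k := k) (n := 1) a (-b) (a - b) (by ring)
  obtain ⟨w, hw⟩ := CohQC.sections_surjective_top
    (CohQC.seq_shortExact (CohFinite.shortExact_tmap (CohFinite.isInvertible_twist 1 k (-b)) hS))
    (CohQC.hh_subsingleton_of_iso (PicGrp.tensorModIso i₁ (Iso.refl _) ≪≫ j).symm _
      (ProjCech.twist_vanish 1 _ 1 (by omega) (by omega)))
    ((CohFinite.tmap g (O k (-b))).app ⊤ (LinRes.gen₀ (eta k b)))
  refine ⟨sec b w, hom_ext_gen (eta k b) (CohFinite.isInvertible_twist 1 k _) _ _ ?_⟩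
  refine Eq.trans ?_ hw
  rw [CohFinite.tmap_comp]
  exact congrArg ((CohFinite.tmap S.g (O k (-b))).app ⊤) (sec_gen b w)

/-- A split sequence with a split quotient. -/
lemma nonempty_iso_cons {C : Type*} [Category C] [Abelian C] [HasFiniteCoproducts C] {n : ℕ}
    {S : ShortComplex C} (hS : S.ShortExact) (W : Fin (n + 1) → C) (i₀ : W 0 ≅ S.X₁)
    (e : S.X₃ ≅ ∐ fun i : Fin n => W i.succ) (ψ : ∀ i : Fin n, W i.succ ⟶ S.X₂)
    (hψ : ∀ i, ψ i ≫ S.g = Sigma.ι (fun i : Fin n => W i.succ) i ≫ e.inv) : Nonempty (S.X₂ ≅ ∐ W) := by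
  let σ : S.X₃ ⟶ S.X₂ := e.hom ≫ Sigma.desc ψ
  have hσ : σ ≫ S.g = 𝟙 _ := by
    rw [← cancel_epi e.inv, Category.comp_id]
    simp only [σ, Category.assoc, Iso.inv_hom_id_assoc]
    exact Sigma.hom_ext _ _ fun i => by rw [Sigma.ι_desc_assoc, hψ]
  let sp := ShortComplex.Splitting.ofExactOfSection S hS.exact σ hσ hS.mono_f
  refine ⟨⟨sp.r ≫ i₀.inv ≫ Sigma.ι W 0 + S.g ≫ e.hom ≫ Sigma.desc (fun i : Fin n => Sigma.ι W i.succ),
    Sigma.desc (Fin.cases (i₀.hom ≫ S.f) ψ), ?_, ?_⟩⟩
  · rw [Preadditive.add_comp]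
    simp only [Category.assoc, Sigma.ι_desc, Fin.cases_zero, Iso.inv_hom_id_assoc]
    refine Eq.trans ?_ sp.id
    congr 1
    show _ = S.g ≫ σ
    simp only [σ]
    congr 2
    exact Sigma.hom_ext _ _ fun i => by simp
  · refine Sigma.hom_ext _ _ fun i => ?_
    rw [Sigma.ι_desc_assoc, Category.comp_id, Preadditive.comp_add]
    induction i using Fin.cases with
    | zero =>
      simp only [Fin.cases_zero, Category.assoc, S.zero_assoc, zero_comp, comp_zero, add_zero,
        sp.f_r_assoc, Iso.hom_inv_id_assoc]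
    | succ i =>
      simp only [Fin.cases_succ]
      have h0 : ψ i ≫ sp.r = 0 := by
        have h1 : ψ i = Sigma.ι (fun i : Fin n => W i.succ) i ≫ e.inv ≫ σ := by
          simp only [σ, Iso.inv_hom_id_assoc, Sigma.ι_desc]
        rw [h1, Category.assoc, Category.assoc, show σ ≫ sp.r = 0 from sp.s_r]
        simp
      rw [reassoc_of% h0, zero_comp, zero_add, ← Category.assoc, hψ, Category.assoc,
        Iso.inv_hom_id_assoc, Sigma.ι_desc]

/-- Torsion-free coherent modules on the projective line split. -/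
theorem exists_split : ∀ (n : ℕ) (E : (CohB1.ProjSpace 1 k).Modules), Coh.IsCoh E → TF E → rk E = n →
    ∃ d : Fin n → ℤ, Antitone d ∧ Nonempty (E ≅ ∐ fun i : Fin n => O k (d i))
  | 0, E, hE, hT, hr => by
    refine ⟨fun i => i.elim0, fun i => i.elim0, ⟨(isZero_of_rk hE hT hr).iso ?_⟩⟩
    exact (IsZero.iff_id_eq_zero _).2 (Sigma.hom_ext _ _ fun i => i.elim0)
  | n + 1, E, hE, hT, hr => by
    haveI : AlgebraicGeometry.IsNoetherian (CohB1.ProjSpace 1 k) := CohFinite.isNoetherian_projSpace 1 k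
    obtain ⟨a, ⟨s, hs⟩, hmax⟩ := exists_max hE hT (by omega)
    let f : O k a ⟶ E := sec a s
    haveI : Mono f := mono_of_ne_zero hT hE.1 f (sec_ne_zero a hs)
    have hS : (ShortComplex.mk f (cokernel.π f) (cokernel.condition f)).ShortExact :=
      { exact := ShortComplex.exact_cokernel f, mono_f := inferInstanceAs (Mono f),
        epi_g := inferInstanceAs (Epi (cokernel.π f)) }
    have hQ : Coh.IsCoh (cokernel f) := Groth.Agent.QC.isCoh_cokernel (CohFinite.isCoh_twist 1 k a).1 hE f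
    have hQ0 : Subsingleton (Coh.HH (CohB1.ProjSpace 1 k) (CohB1.tensorMod (cokernel f) (O k (-(a + 1)))) 0) := by
      refine CohFinite.subsingleton_of_shortExact
        (CohFinite.shortExact_tmap (CohFinite.isInvertible_twist 1 k (-(a + 1))) hS) 0
        (hh0_of_zero k (hmax (a + 1) (by omega))) ?_
      obtain ⟨i⟩ := RegCx.twist_twist (k := k) (n := 1) a (-(a + 1)) (-1) (by ring)
      exact CohQC.hh_subsingleton_of_iso i.symm _ (ProjCech.twist_vanish 1 _ 1 (by omega) (by omega))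
    have hTQ : TF (cokernel f) := TF.of_twist (tf_of_global (zero_of_hh0 k hQ0))
    have hrQ : rk (cokernel f) = n := by
      have := rk_cokernel f (CohFinite.isCoh_twist 1 k a) hE (tf_twist a) hT hTQ
      rw [hr, rk_twist] at this
      omega
    obtain ⟨d, hd, ⟨e⟩⟩ := exists_split n _ hQ hTQ hrQ
    have hle : ∀ i, d i ≤ a := fun i => by
      have := le_of_hh0 (-(a + 1)) e hQ0 i
      omega
    choose ψ hψ using fun i => exists_lift (b := d i) (by have := hle i; omega) hS (Iso.refl _)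
      (Sigma.ι (fun i : Fin n => O k (d i)) i ≫ e.inv)
    refine ⟨Fin.cons a d, fun i j hij => ?_,
      nonempty_iso_cons hS (fun i : Fin (n + 1) => O k ((Fin.cons a d : Fin (n + 1) → ℤ) i)) (Iso.refl _) e ψ hψ⟩
    induction i using Fin.cases with
    | zero =>
      induction j using Fin.cases with
      | zero => exact le_rfl
      | succ j => rw [Fin.cons_zero, Fin.cons_succ]; exact hle j
    | succ i =>
      induction j using Fin.cases with
      | zero => exact absurd hij (by simp)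
      | succ j => rw [Fin.cons_succ, Fin.cons_succ]; exact hd (Fin.succ_le_succ_iff.1 hij)

/-- The splitting type is unique. -/
theorem eq_of_iso {r : ℕ} {d d' : Fin r → ℤ} (hd : Antitone d) (hd' : Antitone d')
    (e : (∐ fun i : Fin r => O k (d i)) ≅ ∐ fun i : Fin r => O k (d' i)) : d = d' := by
  refine eq_of_sum_eq d d' hd hd' fun c => ?_
  have key : ∀ d : Fin r → ℤ, Module.finrank k (Coh.HH (CohB1.ProjSpace 1 k)
      (CohB1.tensorMod (∐ fun i : Fin r => O k (d i)) (O k c)) 0) = ∑ i, (d i + c + 1).toNat := by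
    intro d
    obtain ⟨q⟩ := nonempty_hh_coprod k (fun i : Fin r => O k (d i)) (O k c) 0
    haveI : ∀ i, Module.Finite k (Coh.HH (CohB1.ProjSpace 1 k) (CohB1.tensorMod (O k (d i)) (O k c)) 0) :=
      fun i => CohFinite.finite_projSpace 1 k _
        (CohFinite.isCoh_tensor (CohFinite.isCoh_twist 1 k (d i)) (CohFinite.isInvertible_twist 1 k c)) 0
    rw [q.finrank_eq, Module.finrank_pi_fintype]
    refine Finset.sum_congr rfl fun i _ => ?_
    obtain ⟨j⟩ := RegCx.twist_twist (k := k) (n := 1) (d i) c (d i + c) rfl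
    rw [(CohFinite.hhEquiv k j 0).finrank_eq, finrank_twist]
  rw [← key d, ← key d']
  exact (CohFinite.hhEquiv k (PicGrp.tensorModIso e (Iso.refl _)) 0).finrank_eq

end Groth.Agent.P1Split
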