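/-
Direct images of invertible modules along a double cover of the projective line by a curve of genus one.
-/
import Groth.Agent.P1Split.Main
import Groth.Agent.FEtRank.PushRank
import Groth.Agent.W7Cover.Degree
import Groth.Agent.W7Nef.Normalise
import Groth.Agent.W7Hull.AmpleSurj
import Groth.Agent.Intersect.Push
import Groth.Agent.W7Slope.Hom
import Groth.Agent.CurveRR.Easy
import Groth.Agent.CurveRR.Tensor
import Groth.Agent.CurveRR.TmapR

set_option autoImplicit false
set_option backward.isDefEq.respectTransparency false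
set_option backward.isDefEq.respectTransparency.types false
set_option linter.style.haveILetI false
set_option linter.unusedSectionVars false

universe u

open CategoryTheory CategoryTheory.Limits AlgebraicGeometry TopologicalSpace Opposite
open Groth.Agent.CurveRR

noncomputable section

namespace Groth.Agent.P1Split

variable {k : Type u} [Field k] {X : Scheme.{u}} [X.Over (Spec (CommRingCat.of k))]
  [IsProper (X ↘ Spec (CommRingCat.of k))] [IsIntegral X]

lemma deg_O (c : ℤ) : Curv2.deg k (CohB1.ProjSpace 1 k) (O k c) 1 = c := by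
  haveI := ProjMor.isProper_toSpec 1 k
  haveI : IsProper (CohB1.ProjSpace 1 k ↘ Spec (CommRingCat.of k)) := ProjMor.isProper_toSpec 1 k
  haveI := Horrocks.isIntegral_projSpace (k := k) (n := 1)
  have hd : topologicalKrullDim (CohB1.ProjSpace 1 k) ≤ 1 := (Groth.Agent.S10829.result k 1).le
  have hadd : ∀ a b : ℤ, Curv2.deg k (CohB1.ProjSpace 1 k) (O k (a + b)) 1 =
      Curv2.deg k (CohB1.ProjSpace 1 k) (O k a) 1 + Curv2.deg k (CohB1.ProjSpace 1 k) (O k b) 1 := fun a b => by
    obtain ⟨i⟩ := RegCx.twist_twist (k := k) (n := 1) a b (a + b) rfl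
    rw [← deg_tensor_inv hd (CohFinite.isInvertible_twist 1 k a) (CohFinite.isInvertible_twist 1 k b)]
    exact (W7Slope.deg_iso (k := k) i 1).symm
  have h0 := hadd 0 0
  have h1 : Curv2.deg k (CohB1.ProjSpace 1 k) (O k 1) 1 = 1 := W7Cover.deg_twist_one
  induction c using Int.induction_on with
  | zero => simp only [add_zero] at h0; omega
  | succ i hi => rw [hadd, hi, h1]
  | pred i hi =>
    have := hadd (-(i : ℤ) - 1) 1
    rw [sub_add_cancel, hi, h1] at this
    omega

lemma finrank_coprod_twist {r : ℕ} (d : Fin r → ℤ) (c : ℤ) : Module.finrank k (Coh.HH (CohB1.ProjSpace 1 k)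
    (CohB1.tensorMod (∐ fun i : Fin r => O k (d i)) (O k c)) 0) = ∑ i, (d i + c + 1).toNat := by
  obtain ⟨q⟩ := nonempty_hh_coprod k (fun i : Fin r => O k (d i)) (O k c) 0
  haveI : ∀ i, Module.Finite k (Coh.HH (CohB1.ProjSpace 1 k) (CohB1.tensorMod (O k (d i)) (O k c)) 0) :=
    fun i => CohFinite.finite_projSpace 1 k _
      (CohFinite.isCoh_tensor (CohFinite.isCoh_twist 1 k (d i)) (CohFinite.isInvertible_twist 1 k c)) 0
  rw [q.finrank_eq, Module.finrank_pi_fintype]
  refine Finset.sum_congr rfl fun i _ => ?_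
  obtain ⟨j⟩ := RegCx.twist_twist (k := k) (n := 1) (d i) c (d i + c) rfl
  rw [(CohFinite.hhEquiv k j 0).finrank_eq, finrank_twist]

variable (π : X ⟶ CohB1.ProjSpace 1 k) [IsFinite π] [Flat π]

/-- The pullback of a twist along a double cover of the line has twice the degree. -/
lemma deg_pullback_O (hdim : topologicalKrullDim X = 1)
    (hπ : π ≫ CohB1.ProjSpace.toSpec 1 k = X ↘ Spec (CommRingCat.of k)) (hrk : ∀ y, π.finrank y = 2) (c : ℤ) :
    Curv2.deg k X ((Scheme.Modules.pullback π).obj (O k c)) 1 = 2 * c := by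
  haveI := ProjMor.isProper_toSpec 1 k
  haveI : IsProper (CohB1.ProjSpace 1 k ↘ Spec (CommRingCat.of k)) := ProjMor.isProper_toSpec 1 k
  haveI := Horrocks.isIntegral_projSpace (k := k) (n := 1)
  haveI := isNoetherian_of_proper k X
  haveI := isNoetherian_of_proper k (CohB1.ProjSpace 1 k)
  have hd : topologicalKrullDim (CohB1.ProjSpace 1 k) = 1 := Groth.Agent.S10829.result k 1
  haveI : Surjective π := π.one_le_finrank_iff_surjective.1 fun y => by
    rw [hrk y]
    exact one_le_two
  have hξ : π (genericPoint X) = genericPoint (CohB1.ProjSpace 1 k) := by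
    have h1 := (genericPoint_spec X).image π.continuous
    rw [Set.image_univ, π.surjective.range_eq, closure_univ] at h1
    exact h1.eq (genericPoint_spec _)
  have hne : ∀ x' : X, x' ≠ genericPoint X → π x' ≠ genericPoint (CohB1.ProjSpace 1 k) := fun x' hx' he => by
    have h1 := π.isClosedMap _ (CurveVA.isClosed_singleton_of_ne_generic (k := k) hdim hx')
    rw [Set.image_singleton, he] at h1
    exact CurveRR.genericPoint_ne_of_closed (k := k) hd h1 rfl
  have hdeg : ∀ (n : ℕ) (E : (CohB1.ProjSpace 1 k).Modules), FlatMod.IsFinLocFreeOfRank n E →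
      Curv2.deg k X ((Scheme.Modules.pullback π).obj E) n =
        (π.residueDegree (genericPoint X) : ℤ) * Curv2.deg k (CohB1.ProjSpace 1 k) E n := fun n E hE =>
    DualGeneric.deg_pullback k hdim.le hd.le π hπ hξ
      (fun y hy he => CurveRR.genericPoint_ne_of_closed (k := k) hd hy
        (hξ.symm.trans he))
      (fun x' hx' => by_contra fun hn => hne x' hn (hx'.trans hξ)) hE
  have hpos := W7Nef.residueDegree_pos k π π.isClosedMap hdim hd hξ
  have hO1 : Curv2.deg k X (CurveVA.O1 π) 1 = (π.residueDegree (genericPoint X) : ℤ) := by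
    have := hdeg 1 _ (isFinLocFreeOfRank_one (CohFinite.isInvertible_twist 1 k 1))
    rwa [deg_O, mul_one] at this
  obtain ⟨-, -, -, -, hfin⟩ := W7Cover.cover_facts π hdim hπ (by rw [hO1]; exact_mod_cast hpos)
  have h2 : π.residueDegree (genericPoint X) = 2 := (hfin (genericPoint _)).symm.trans (hrk _)
  rw [hdeg 1 _ (isFinLocFreeOfRank_one (CohFinite.isInvertible_twist 1 k c)), deg_O, h2]
  norm_num

/-- The two summands of the direct image of an invertible module of degree `d`. -/
theorem exists_push_split (hdim : topologicalKrullDim X = 1) (h0 : h k (Coh.structureModule X) 0 = 1)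
    (hg : Curv2.genus k X = 1) (hπ : π ≫ CohB1.ProjSpace.toSpec 1 k = X ↘ Spec (CommRingCat.of k))
    (hrk : ∀ y, π.finrank y = 2) {L : X.Modules} (hL : PicF.IsInvertible L) :
    ∃ a : Fin 2 → ℤ, Nonempty ((Scheme.Modules.pushforward π).obj L ≅ ∐ fun j : Fin 2 => O k (a j)) ∧
      a 0 + a 1 + 2 = Curv2.deg k X L 1 ∧ a 1 ≤ a 0 ∧ a 0 ≤ a 1 + 2 ∧
      (a 0 = a 1 + 2 ↔ ∃ e, Nonempty (L ≅ (Scheme.Modules.pullback π).obj (O k e))) ∧
      (∀ e, Nonempty (L ≅ (Scheme.Modules.pullback π).obj (O k e)) → a 0 = e) := by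
  haveI := ProjMor.isProper_toSpec 1 k
  haveI : IsProper (CohB1.ProjSpace 1 k ↘ Spec (CommRingCat.of k)) := ProjMor.isProper_toSpec 1 k
  haveI := isNoetherian_of_proper k X
  haveI := isNoetherian_of_proper k (CohB1.ProjSpace 1 k)
  let d := Curv2.deg k X L 1
  let P := fun c => (Scheme.Modules.pullback π).obj (O k c)
  have hP : ∀ c, PicF.IsInvertible (P c) := fun c => PicLoc.isInvertible_pullback π (CohFinite.isInvertible_twist 1 k c)
  have hM : ∀ c, PicF.IsInvertible (CohB1.tensorMod L (P c)) := fun c => TMul.isInvertible_tensorMod hL (hP c)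
  have hdM : ∀ c, Curv2.deg k X (CohB1.tensorMod L (P c)) 1 = d + 2 * c := fun c => by
    rw [deg_tensor_inv hdim.le hL (hP c), deg_pullback_O π hdim hπ hrk c]
  let E := (Scheme.Modules.pushforward π).obj L
  have hE : Coh.IsCoh E := Intersect.isCoh_push' π (isCoh_of_inv hL)
  have hh : ∀ c, Module.finrank k (Coh.HH _ (CohB1.tensorMod E (O k c)) 0) = h k (CohB1.tensorMod L (P c)) 0 := by
    intro c
    haveI := W7Hull.isIso_projMap_of_invertible π L (CohFinite.isInvertible_twist 1 k c)
    haveI : (CohB1.tensorMod L (P c)).IsQuasicoherent := (isCoh_of_inv (hM c)).1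
    obtain ⟨e⟩ := CohFinite.hh_push_linear k π hπ (CohB1.tensorMod L (P c))
      (CohQC.directAcyclic_of_isAffineHom π _) 0
    exact (h_eq_of_iso (asIso (CohFinite.projMap π L (O k c))) 0).trans e.finrank_eq.symm
  have hpos : ∀ c, 0 < d + 2 * c → (h k (CohB1.tensorMod L (P c)) 0 : ℤ) = d + 2 * c := fun c hc => by
    rw [h0_eq_of_deg hdim.le h0 (hM c) (by rw [hdM, hg]; push_cast; omega), hdM, hg]
    push_cast
    ring
  have hneg : ∀ c, d + 2 * c < 0 → h k (CohB1.tensorMod L (P c)) 0 = 0 := fun c hc => by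
    by_contra hne
    obtain ⟨s, hs⟩ := exists_section (k := k) hne
    have := Easy.deg_nonneg (k := k) hdim.le (hM c) s hs
    rw [hdM] at this
    omega
  -- splitting
  have hTF : TF E := by
    refine TF.of_twist (b := -d.natAbs - 1) (tf_of_global fun z => ?_)
    have h1 := (hh (-d.natAbs - 1)).trans (hneg _ (by omega))
    haveI := CohFinite.finite_proper k _ _ (isCoh_tensor' hE (isCoh_of_inv (CohFinite.isInvertible_twist 1 k (-d.natAbs - 1)))) 0
    exact zero_of_hh0 k (Module.finrank_zero_iff.1 h1) z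
  obtain ⟨a, ha, ⟨e⟩⟩ := exists_split (rk E) E hE hTF rfl
  have hsum : ∀ c, (∑ i, (a i + c + 1).toNat) = h k (CohB1.tensorMod L (P c)) 0 := fun c => by
    rw [← hh c, ← finrank_coprod_twist (k := k) a c]
    exact (h_eq_of_iso (PicGrp.tensorModIso e (Iso.refl _)) 0).symm
  have hbig : ∃ c₀ : ℤ, ∀ c, c₀ ≤ c → (∑ i, (a i + c + 1)) = d + 2 * c := by
    refine ⟨(∑ i, (a i).natAbs : ℕ) + d.natAbs + 1, fun c hc => ?_⟩
    have hnn : ∀ i, 0 ≤ a i + c + 1 := fun i => by
      have : (a i).natAbs ≤ ∑ j, (a j).natAbs :=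
        Finset.single_le_sum (f := fun j => (a j).natAbs) (fun j _ => Nat.zero_le _) (Finset.mem_univ i)
      omega
    rw [← hpos c (by omega), ← hsum c, Nat.cast_sum]
    exact Finset.sum_congr rfl fun i _ => (Int.toNat_of_nonneg (hnn i)).symm
  obtain ⟨c₀, hc₀⟩ := hbig
  have hr : rk E = 2 := by
    have h1 := hc₀ c₀ le_rfl
    have h2 := hc₀ (c₀ + 1) (by omega)
    simp only [Finset.sum_add_distrib, Finset.sum_const, Finset.card_univ, Fintype.card_fin, nsmul_eq_mul,
      mul_one] at h1 h2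
    have h3 : ((rk E : ℕ) : ℤ) = 2 := by linarith
    exact_mod_cast h3
  revert a
  rw [hr]
  intro a ha e hsum hc₀
  have hab := hc₀ c₀ le_rfl
  have hs := hsum (-a 0)
  rw [Fin.sum_univ_two] at hab hs
  have h10 : a 1 ≤ a 0 := ha (Fin.zero_le 1)
  have hd : a 0 + a 1 + 2 = d := by linarith
  have h2 : a 0 ≤ a 1 + 2 := by
    by_contra hh'
    rw [hneg _ (by omega)] at hs
    omega
  have hiso : ∀ e, Nonempty (L ≅ P e) → a 0 = e ∧ a 0 = a 1 + 2 := fun e ⟨ψ⟩ => by
    have hde : d = 2 * e := (W7Slope.deg_iso (k := k) ψ 1).trans (deg_pullback_O π hdim hπ hrk e)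
    have h1 : h k (CohB1.tensorMod L (P (-e))) 0 = 1 := by
      obtain ⟨i⟩ := exists_eta (k := k) e
      obtain ⟨t⟩ := TMul.nonempty_pullTensorIso π (O k e) (O k (-e))
      rw [h_eq_of_iso (k := k) (PicGrp.tensorModIso ψ (Iso.refl _) ≪≫ t ≪≫
        (Scheme.Modules.pullback π).mapIso (TMul.commIso _ _ ≪≫ i) ≪≫ PicLoc.pullbackStructureIso π) 0]
      exact h0
    have h3 := hsum (-e)
    rw [Fin.sum_univ_two, h1] at h3
    omega
  refine ⟨a, ⟨e⟩, hd, h10, h2, ⟨fun he => ⟨a 0, ?_⟩, fun ⟨e', he'⟩ => (hiso e' he').2⟩, fun e' he' => (hiso e' he').1⟩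
  have hn : h k (CohB1.tensorMod L (P (-a 0))) 0 ≠ 0 := by omega
  obtain ⟨s, hs'⟩ := exists_section (k := k) hn
  haveI := (deg_le_and_isIso (k := k) hdim.le TMul.isInvertible_structureModule (hM _) s hs').2
    (by rw [deg_structure, hdM]; omega)
  obtain ⟨i⟩ := exists_eta (k := k) (a 0)
  obtain ⟨t⟩ := TMul.nonempty_pullTensorIso π (O k (-a 0)) (O k (a 0))
  exact ⟨(TMul.leftUnitIso L).symm ≪≫ TMul.commIso _ _ ≪≫
    PicGrp.tensorModIso (Iso.refl L) ((PicLoc.pullbackStructureIso π).symm ≪≫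
      (Scheme.Modules.pullback π).mapIso i.symm ≪≫ t.symm) ≪≫ (TMul.assocIso _ _ _).symm ≪≫
    PicGrp.tensorModIso (asIso s).symm (Iso.refl _) ≪≫ TMul.leftUnitIso _⟩

end Groth.Agent.P1Split

end
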