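import Groth.Agent.CurveP1.Basic
import Groth.Agent.QC.FiniteType
import Groth.Agent.QC.Closure
import Groth.Agent.TMul.Basic
import Groth.Agent.GrT.Twist

/-!
Coherent modules on the projective line without sections supported at finitely many points:
on the standard charts their sections are torsion-free, hence free.
-/

set_option autoImplicit false
set_option linter.unusedSectionVars false
set_option linter.style.haveILetI false
set_option backward.isDefEq.respectTransparency false

universe u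

open CategoryTheory CategoryTheory.Limits AlgebraicGeometry TopologicalSpace Opposite
open Groth.Agent.QC (res res_res res_smul app_res)

noncomputable section

namespace Groth.Agent.P1Split

variable {k : Type u} [Field k]

variable (k) in
/-- The standard charts. -/
def U (i : Fin 2) : (CohB1.ProjSpace 1 k).Opens :=
  Proj.basicOpen (CohB1.polyGrading 1 k) (MvPolynomial.X i)

lemma isAffine_U (i : Fin 2) : IsAffineOpen (U k i) :=
  ProjLib.isAffineOpen_basicOpen _ (CurveP1.X_mem k i) one_pos

instance isDomain_U (i : Fin 2) : IsDomain Γ(CohB1.ProjSpace 1 k, U k i) := by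
  obtain ⟨e, -⟩ := CurveP1.exists_chart k i
  exact MulEquiv.isDomain (Polynomial k) (e.toMulEquiv : Γ(CohB1.ProjSpace 1 k, U k i) ≃* Polynomial k)

instance isPID_U (i : Fin 2) : IsPrincipalIdealRing Γ(CohB1.ProjSpace 1 k, U k i) := by
  obtain ⟨e, -⟩ := CurveP1.exists_chart k i
  exact IsPrincipalIdealRing.of_surjective (R := Polynomial k)
    (S := Γ(CohB1.ProjSpace 1 k, U k i)) e.symm.toRingHom e.symm.surjective

lemma exists_mem_U (x : CohB1.ProjSpace 1 k) : ∃ i, x ∈ U k i := by
  obtain ⟨i, hi⟩ := CohFinite.cov_X 1 k x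
  exact ⟨i.down, (ProjectiveSpectrum.mem_basicOpen _ _ x).mpr hi⟩

instance jacobson : JacobsonSpace (CohB1.ProjSpace 1 k) := by
  haveI := ProjMor.isProper_toSpec 1 k
  exact LocallyOfFiniteType.jacobsonSpace (CohB1.ProjSpace.toSpec 1 k)

/-- The zero set of a non-zero function on a chart is closed in the line. -/
lemma exists_compl (i : Fin 2) (c : Γ(CohB1.ProjSpace 1 k, U k i)) (hc : c ≠ 0) :
    ∃ V : (CohB1.ProjSpace 1 k).Opens, U k i ⊔ V = ⊤ ∧ V ⊓ U k i ≤ (CohB1.ProjSpace 1 k).basicOpen c := by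
  set X := CohB1.ProjSpace 1 k
  let hU := isAffine_U (k := k) i
  let Z : Set X := (U k i : Set X) \ (X.basicOpen c : Set X)
  have hfin : Z.Finite := by
    have hpr : {p : PrimeSpectrum Γ(X, U k i) | c ∈ p.asIdeal}.Finite := by
      refine Set.Finite.of_finite_image (f := PrimeSpectrum.asIdeal) ?_ (fun p _ q _ h => PrimeSpectrum.ext h)
      refine (Ideal.span {c}).finite_minimalPrimes_of_isNoetherianRing.subset ?_
      rintro _ ⟨p, hp, rfl⟩
      refine ⟨⟨p.isPrime, (Ideal.span_singleton_le_iff_mem _).2 hp⟩, fun q hq hqp => ?_⟩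
      have hq0 : q ≠ ⊥ := fun h => hc (by
        have := hq.2 (Ideal.mem_span_singleton_self c)
        rwa [h, Ideal.mem_bot] at this)
      haveI := hq.1
      exact ((IsPrime.to_maximal_ideal hq0).eq_of_le p.isPrime.ne_top hqp).ge
    refine (hpr.image hU.fromSpec).subset ?_
    rintro x ⟨hxU, hxc⟩
    refine ⟨hU.primeIdealOf ⟨x, hxU⟩, ?_, hU.fromSpec_primeIdealOf ⟨x, hxU⟩⟩
    by_contra hmem
    refine hxc ?_
    have h1 : hU.primeIdealOf ⟨x, hxU⟩ ∈ hU.fromSpec ⁻¹ᵁ X.basicOpen c := by
      rw [hU.fromSpec_preimage_basicOpen]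
      exact hmem
    have h2 : hU.fromSpec (hU.primeIdealOf ⟨x, hxU⟩) ∈ X.basicOpen c := h1
    rwa [hU.fromSpec_primeIdealOf ⟨x, hxU⟩] at h2
  have hloc : ∀ z ∈ Z, IsClosed ({z} : Set X) := by
    intro z hz
    refine isClosed_singleton_of_isLocallyClosed_singleton ?_
    haveI := hfin
    let W : X.Opens := U k i
    have hZc : IsLocallyClosed Z := (W.2.isLocallyClosed).inter (X.basicOpen c).2.isClosed_compl.isLocallyClosed
    -- a point of a finite locally closed set
    have hTD : ∀ y ∈ Z, y ∈ closure ({z} : Set X) → y = z := by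
      rintro y ⟨hyU, hyc⟩ hy
      by_contra hne
      have hzy : z ⤳ y := specializes_iff_mem_closure.2 hy
      have hzy' : hU.primeIdealOf ⟨z, hz.1⟩ ⤳ hU.primeIdealOf ⟨y, hyU⟩ := by
        refine hU.fromSpec.isOpenEmbedding.isInducing.specializes_iff.1 ?_
        rw [hU.fromSpec_primeIdealOf, hU.fromSpec_primeIdealOf]
        exact hzy
      have hle : (hU.primeIdealOf ⟨z, hz.1⟩).asIdeal ≤ (hU.primeIdealOf ⟨y, hyU⟩).asIdeal :=
        (PrimeSpectrum.le_iff_specializes _ _).2 hzy'
      have hzc : c ∈ (hU.primeIdealOf ⟨z, hz.1⟩).asIdeal := by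
        by_contra hmem
        refine hz.2 ?_
        have h1 : hU.primeIdealOf ⟨z, hz.1⟩ ∈ hU.fromSpec ⁻¹ᵁ X.basicOpen c := by
          rw [hU.fromSpec_preimage_basicOpen]
          exact hmem
        have h2 : hU.fromSpec (hU.primeIdealOf ⟨z, hz.1⟩) ∈ X.basicOpen c := h1
        rwa [hU.fromSpec_primeIdealOf ⟨z, hz.1⟩] at h2
      haveI := (hU.primeIdealOf ⟨z, hz.1⟩).isPrime
      have hq0 : (hU.primeIdealOf ⟨z, hz.1⟩).asIdeal ≠ ⊥ := fun h => hc (by rwa [h, Ideal.mem_bot] at hzc)
      have := (IsPrime.to_maximal_ideal hq0).eq_of_le (hU.primeIdealOf ⟨y, hyU⟩).isPrime.ne_top hle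
      refine hne ?_
      exact ((hU.fromSpec_primeIdealOf ⟨y, hyU⟩).symm.trans (congrArg hU.fromSpec (PrimeSpectrum.ext this).symm)).trans
        (hU.fromSpec_primeIdealOf ⟨z, hz.1⟩)
    have : ({z} : Set X) = Z ∩ closure {z} :=
      Set.eq_of_subset_of_subset (Set.singleton_subset_iff.2 ⟨hz, subset_closure rfl⟩)
        fun y hy => hTD y hy.1 hy.2
    rw [this]
    exact hZc.inter isClosed_closure.isLocallyClosed
  have hZ : IsClosed Z := by
    rw [← Set.biUnion_of_singleton Z]
    exact hfin.isClosed_biUnion hloc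
  refine ⟨⟨Zᶜ, hZ.isOpen_compl⟩, eq_top_iff.2 fun x _ => ?_, fun x hx => ?_⟩
  · by_cases hx : x ∈ Z
    · exact Opens.mem_sup.2 (Or.inl hx.1)
    · exact Opens.mem_sup.2 (Or.inr hx)
  · by_contra h
    exact hx.1 ⟨hx.2, h⟩

variable (M : (CohB1.ProjSpace 1 k).Modules)

/-- No non-zero torsion on the charts. -/
def TF : Prop :=
  ∀ (i : Fin 2) (c : Γ(CohB1.ProjSpace 1 k, U k i)) (v : Γ(M, U k i)), c • v = 0 → c = 0 ∨ v = 0

variable {M}

/-- Without global sections there is no torsion. -/
theorem tf_of_global (h : ∀ z : Γ(M, ⊤), z = 0) : TF M := by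
  intro i c v hcv
  by_cases hc : c = 0
  · exact Or.inl hc
  refine Or.inr ?_
  obtain ⟨V, hcov, hle⟩ := exists_compl i c hc
  have hzero : res M (inf_le_right : V ⊓ U k i ≤ U k i) v = 0 := by
    have h1 := congrArg (res M (inf_le_right : V ⊓ U k i ≤ U k i)) hcv
    rw [res_smul, map_zero] at h1
    have hu : IsUnit (Groth.Agent.QC.resO (CohB1.ProjSpace 1 k) (inf_le_right : V ⊓ U k i ≤ U k i) c) := by
      rw [← Groth.Agent.QC.resO_resO hle ((CohB1.ProjSpace 1 k).basicOpen_le c)]
      exact (RingedSpace.isUnit_res_basicOpen _ c).map _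
    exact (IsUnit.smul_eq_zero hu).1 h1
  let W : Bool → (CohB1.ProjSpace 1 k).Opens := fun b => cond b (U k i) V
  let s : ∀ b, Γ(M, W b) := fun b => match b with
    | true => v
    | false => 0
  obtain ⟨z, hz, -⟩ := (Groth.Agent.QC.abSheaf M).existsUnique_gluing' W ⊤
    (fun b => homOfLE le_top) (by
      rw [← hcov]
      exact sup_le (le_iSup W true) (le_iSup W false)) s (by
      intro a b
      cases a <;> cases b
      · rfl
      · show res M inf_le_left (0 : Γ(M, V)) = res M inf_le_right v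
        rw [map_zero, hzero]
      · show res M inf_le_left v = res M inf_le_right (0 : Γ(M, V))
        rw [map_zero, ← res_res M (le_inf inf_le_right inf_le_left : U k i ⊓ V ≤ V ⊓ U k i) inf_le_right, hzero, map_zero]
      · rfl)
  have := hz true
  rw [show s true = v from rfl] at this
  rw [← this, h z]
  exact map_zero _

lemma TF.free (hT : TF M) (hM : Coh.IsCoh M) (i : Fin 2) :
    Module.Finite Γ(CohB1.ProjSpace 1 k, U k i) Γ(M, U k i) ∧
      Module.Free Γ(CohB1.ProjSpace 1 k, U k i) Γ(M, U k i) := by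
  have : M.IsQuasicoherent := hM.1
  have h1 := Groth.Agent.QC.finite_sections (isAffine_U i) hM.2
  haveI : Module.IsTorsionFree Γ(CohB1.ProjSpace 1 k, U k i) Γ(M, U k i) :=
    ⟨fun c hc a b hab => by
      have h0 : c • (a - b) = 0 := by rw [smul_sub, sub_eq_zero]; exact hab
      rcases hT i c _ h0 with h | h
      · exact absurd h hc.ne_zero
      · exact sub_eq_zero.1 h⟩
  exact ⟨h1, Module.free_of_finite_type_torsion_free'⟩

end Groth.Agent.P1Split
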