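import Groth.Agent.P1Split.Torsion
import Groth.Agent.RegTilde.LinRes
import Groth.Agent.LocFree.Props
import Groth.Agent.LocFree.SemiLocal
import Groth.Agent.DQCoh.Serre

/-!
Torsion-free coherent modules on the projective line: rank, and maps from line bundles.
-/

set_option autoImplicit false
set_option linter.unusedSectionVars false
set_option linter.style.haveILetI false
set_option backward.isDefEq.respectTransparency false

universe u

open CategoryTheory CategoryTheory.Limits AlgebraicGeometry TopologicalSpace Opposite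
open Groth.Agent.QC (res res_res res_smul app_res)

noncomputable section

namespace Groth.Agent.P1Split

section General

variable {X : Scheme.{u}}

/-- Bijectivity on an affine cover gives an isomorphism. -/
lemma isIso_of_cover {M N : X.Modules} (hM : Coh.IsQCoh M) (hN : Coh.IsQCoh N) (φ : M ⟶ N) {ι : Type*}
    (W : ι → X.Opens) (hW : ∀ i, IsAffineOpen (W i)) (hcov : ∀ x, ∃ i, x ∈ W i)
    (h : ∀ i, Function.Bijective (φ.app (W i))) : IsIso φ := by
  refine Groth.Agent.QC.isIso_of_restrict_cover (fun i => (hW i).fromSpec) (fun x => ?_) φ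
    fun i => Groth.Agent.QC.isIso_restrict_of_bijective (hW i) hM hN φ (h i)
  obtain ⟨i, hi⟩ := hcov x
  exact ⟨i, (hW i).range_fromSpec.symm ▸ hi⟩

/-- Left exactness of sections. -/
lemma exists_app_eq {L E : X.Modules} (f : L ⟶ E) [Mono f] {W : X.Opens} {v : Γ(E, W)}
    (hv : (cokernel.π f).app W v = 0) : ∃ w, f.app W w = v := by
  exact Groth.Agent.DQCoh.exists_app_eq (S := ShortComplex.mk f (cokernel.π f) (cokernel.condition f))
    { exact := ShortComplex.exact_cokernel f, mono_f := ‹Mono f›,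
      epi_g := inferInstanceAs (Epi (cokernel.π f)) } W v hv

end General

variable {k : Type u} [Field k]

variable (k) in
/-- `O(a)`. -/
abbrev O (a : ℤ) : (CohB1.ProjSpace 1 k).Modules := Twist.twistProjSpace 1 k a

lemma U_nonempty (i : Fin 2) : (U k i : Set (CohB1.ProjSpace 1 k)).Nonempty := by
  by_contra h
  have hbot : U k i = ⊥ := Opens.ext (Set.not_nonempty_iff_eq_empty.1 h)
  haveI : Subsingleton Γ(CohB1.ProjSpace 1 k, U k i) := by
    rw [hbot]; infer_instance
  exact zero_ne_one (α := Γ(CohB1.ProjSpace 1 k, U k i)) (Subsingleton.elim _ _)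

lemma exists_gen (a : ℤ) (i : Fin 2) : ∃ e : Γ(O k a, U k i), TMul.IsGen e := by
  have h := GrT.exists_twistGen (CohB1.polyGrading 1 k) (CurveP1.X_mem k i) a
  rw [Nat.cast_one, mul_one] at h
  exact h

/-- Sections vanish everywhere if they vanish on the charts. -/
lemma isZero_of_charts {M : (CohB1.ProjSpace 1 k).Modules} (hM : Coh.IsQCoh M)
    (h : ∀ (i : Fin 2) (v : Γ(M, U k i)), v = 0) : IsZero M := by
  haveI : IsIso (0 : M ⟶ M) := isIso_of_cover hM hM 0 (U k) isAffine_U exists_mem_U
    fun i => ⟨fun a b _ => (h i a).trans (h i b).symm, fun b => ⟨0, (map_zero _).trans (h i b).symm⟩⟩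
  rw [IsZero.iff_id_eq_zero, ← IsIso.hom_inv_id (0 : M ⟶ M), zero_comp]

lemma mono_of_charts {M N : (CohB1.ProjSpace 1 k).Modules} (hM : Coh.IsQCoh M) (hN : Coh.IsQCoh N)
    (f : M ⟶ N) (h : ∀ i, Function.Injective (f.app (U k i))) : Mono f := by
  refine Preadditive.mono_of_isZero_kernel f (isZero_of_charts (Groth.Agent.QC.isQCoh_kernel hM hN f) fun i v => ?_)
  refine Groth.Agent.QC.app_injective_of_mono (kernel.ι f) (U k i) (h i ?_)
  rw [map_zero, map_zero]
  exact congrArg (RegKos.ev v) (kernel.condition f)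

/-- A non-zero map from a line bundle to a torsion-free module is injective on the charts. -/
lemma injective_app {a : ℤ} {E : (CohB1.ProjSpace 1 k).Modules} (hE : TF E) (hEq : Coh.IsQCoh E)
    (f : O k a ⟶ E) (hf : f ≠ 0)
    (i : Fin 2) : Function.Injective (f.app (U k i)) := by
  obtain ⟨e, he⟩ := exists_gen (k := k) a i
  have hbij := he (U k i) le_rfl
  simp only [Groth.Agent.QC.res_self] at hbij
  have hfe : f.app (U k i) e ≠ 0 := by
    intro h0
    refine hf (Scheme.Modules.hom_ext _ _ fun V => ?_)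
    ext t
    refine Groth.Agent.QC.section_eq_of_locally fun x hx => ?_
    obtain ⟨j, hj⟩ := exists_mem_U (k := k) x
    obtain ⟨e', he'⟩ := exists_gen (k := k) a j
    have hall : f.app (U k j) e' = 0 := by
      have hres : res E (inf_le_left : U k j ⊓ U k i ≤ U k j) (f.app (U k j) e') = 0 := by
        rw [app_res]
        obtain ⟨c, hc⟩ := (he (U k j ⊓ U k i) inf_le_right).2 (res (O k a) inf_le_left e')
        rw [← hc, TMul.app_smul, ← app_res, h0, map_zero, smul_zero]
      haveI : AlgebraicGeometry.IsIntegral (CohB1.ProjSpace 1 k) := CurveP1.isIntegral k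
      obtain ⟨y, hyj, hyi⟩ : ((U k j : Set (CohB1.ProjSpace 1 k)) ∩ U k i).Nonempty :=
        nonempty_preirreducible_inter (U k j).2 (U k i).2 ⟨x, hj⟩ (U_nonempty i)
      obtain ⟨c, hc, hyc⟩ := (isAffine_U j).exists_basicOpen_le (V := U k i) ⟨y, hyi⟩ hyj
      have hz : res E ((CohB1.ProjSpace 1 k).basicOpen_le c) (f.app (U k j) e') = 0 := by
        rw [← res_res E (le_inf ((CohB1.ProjSpace 1 k).basicOpen_le c) hc) inf_le_left, hres, map_zero]
      haveI : E.IsQuasicoherent := hEq
      obtain ⟨N, hN⟩ := (Groth.Agent.QC.isLoc_of_isQCoh (isAffine_U j)).exists_pow_smul_eq_zero c _ hz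
      refine (hE j (c ^ N) _ hN).resolve_left (pow_ne_zero _ ?_)
      rintro rfl
      rw [Scheme.basicOpen_zero] at hyc
      exact hyc
    have hmem : x ∈ V ⊓ U k j := ⟨hx, hj⟩
    refine ⟨V ⊓ U k j, inf_le_left, hmem, ?_⟩
    obtain ⟨c, hc⟩ := (he' (V ⊓ U k j) inf_le_right).2 (res (O k a) inf_le_left t)
    rw [app_res, ← hc, TMul.app_smul, ← app_res, hall, map_zero, smul_zero]
    exact (map_zero _).symm
  intro s t hst
  obtain ⟨c, rfl⟩ := hbij.2 s
  obtain ⟨d, rfl⟩ := hbij.2 t
  rw [TMul.app_smul, TMul.app_smul, ← sub_eq_zero, ← sub_smul] at hst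
  rw [sub_eq_zero.1 ((hE i _ _ hst).resolve_right hfe)]

/-- Maps from line bundles to torsion-free modules are injective. -/
theorem mono_of_ne_zero {a : ℤ} {E : (CohB1.ProjSpace 1 k).Modules} (hE : TF E) (hEq : Coh.IsQCoh E)
    (f : O k a ⟶ E) (hf : f ≠ 0) : Mono f :=
  mono_of_charts (CohFinite.isCoh_twist 1 k a).1 hEq f fun i => injective_app hE hEq f hf i

/-- Torsion-freeness descends from a twist. -/
lemma TF.of_twist {M : (CohB1.ProjSpace 1 k).Modules} {b : ℤ} (h : TF (CohB1.tensorMod M (O k b))) : TF M := by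
  intro i c v hcv
  obtain ⟨e, he⟩ := exists_gen (k := k) b i
  have hinj := (TMul.tm_bijective (M := M) he (U k i) le_rfl).1
  simp only [Groth.Agent.QC.res_self] at hinj
  rcases h i c (TMul.tm v e) (by rw [← TMul.smul_tm, hcv, TMul.zero_tm]) with h | h
  · exact Or.inl h
  · exact Or.inr (hinj (h.trans (TMul.zero_tm _).symm))

/-- Locally free modules are torsion-free. -/
lemma tf_of_locFree {E : (CohB1.ProjSpace 1 k).Modules} (h : FlatMod.IsFinLocFree E) : TF E := by
  intro i c v hcv
  have hP := Groth.Agent.LocFree.projective_sections h (isAffine_U i)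
  obtain ⟨s, hs⟩ := hP.out
  have h0 : c • s v = 0 := by rw [← map_smul, hcv, map_zero]
  rcases smul_eq_zero.1 h0 with h | h
  · exact Or.inl h
  · exact Or.inr (by rw [← hs v, h, map_zero])

/-- The rank on the first chart. -/
def rk (M : (CohB1.ProjSpace 1 k).Modules) : ℕ :=
  Module.finrank Γ(CohB1.ProjSpace 1 k, U k 0) Γ(M, U k 0)

lemma rk_twist (a : ℤ) : rk (O k a) = 1 := by
  obtain ⟨e, he⟩ := exists_gen (k := k) a 0
  have hbij := he (U k 0) le_rfl
  simp only [Groth.Agent.QC.res_self] at hbij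
  exact (LinearEquiv.ofBijective (LinearMap.toSpanSingleton Γ(CohB1.ProjSpace 1 k, U k 0) Γ(O k a, U k 0) e)
    hbij).finrank_eq.symm.trans (Module.finrank_self _)

lemma rk_of_locFreeOfRank {E : (CohB1.ProjSpace 1 k).Modules} {r : ℕ}
    (h : FlatMod.IsFinLocFreeOfRank r E) : rk E = r := by
  have hf : FlatMod.IsFinLocFree E := fun x => by
    obtain ⟨V, hx, he⟩ := h x
    exact ⟨V, r, hx, he⟩
  have hq := Groth.Agent.LocFree.isQCoh_of_isFinLocFree hf
  have hc : Coh.IsCoh E := ⟨hq, Groth.Agent.LocFree.isFT_of_isFinLocFree hf⟩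
  obtain ⟨hfin, hfree⟩ := (tf_of_locFree hf).free hc 0
  obtain ⟨y, hy⟩ := U_nonempty (k := k) 0
  haveI := Groth.Agent.LocFree.finitePresentation_sections hf (isAffine_U (k := k) 0)
  have h2 := Groth.Agent.LocFree.rankAtStalk_eq_of_isFinLocFreeOfRank h hq (isAffine_U 0) hy
  rw [Module.rankAtStalk_eq_finrank_of_free] at h2
  exact h2

/-- Rank is additive. -/
lemma rk_cokernel {L E : (CohB1.ProjSpace 1 k).Modules} (f : L ⟶ E) [Mono f] (hL : Coh.IsCoh L)
    (hE : Coh.IsCoh E) (tL : TF L) (tE : TF E) (tQ : TF (cokernel f)) :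
    rk E = rk L + rk (cokernel f) := by
  have hQ : Coh.IsCoh (cokernel f) :=
    Groth.Agent.QC.isCoh_cokernel hL.1 hE f
  haveI := (tL.free hL 0).1; haveI := (tL.free hL 0).2
  haveI := (tE.free hE 0).1; haveI := (tE.free hE 0).2
  haveI := (tQ.free hQ 0).1; haveI := (tQ.free hQ 0).2
  let F : Γ(L, U k 0) →ₗ[Γ(CohB1.ProjSpace 1 k, U k 0)] Γ(E, U k 0) :=
    { toFun := f.app (U k 0)
      map_add' := map_add _
      map_smul' := fun r x => TMul.app_smul f r x }
  let G : Γ(E, U k 0) →ₗ[Γ(CohB1.ProjSpace 1 k, U k 0)] Γ(cokernel f, U k 0) :=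
    { toFun := (cokernel.π f).app (U k 0)
      map_add' := map_add _
      map_smul' := fun r x => TMul.app_smul (cokernel.π f) r x }
  have hG : Function.Surjective G :=
    Groth.Agent.QC.app_surjective_of_epi (isAffine_U 0) hE.1 hQ.1 (cokernel.π f)
  have hF : Function.Injective F := Groth.Agent.QC.app_injective_of_mono f (U k 0)
  have hrange : LinearMap.range F = LinearMap.ker G := by
    refine le_antisymm ?_ fun v hv => ?_
    · rintro _ ⟨w, rfl⟩
      exact congrArg (RegKos.ev w) (cokernel.condition f)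
    · exact exists_app_eq f hv
  have h1 := Submodule.finrank_quotient_add_finrank (LinearMap.ker G)
  rw [(G.quotKerEquivOfSurjective hG).finrank_eq] at h1
  rw [← hrange, LinearMap.finrank_range_of_inj hF] at h1
  exact h1.symm.trans (Nat.add_comm _ _)

end Groth.Agent.P1Split
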